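import Cfsg.Agent.Lib.Components.Hyperplane
import Mathlib.GroupTheory.Schreier

/-!
Index inequalities for groups generated by fixed points of hyperplanes.
-/

set_option autoImplicit false
set_option linter.all false

namespace Cfsg.Agent.Components.DerivedBound

open Subgroup

variable {Γ : Type*} [Group Γ]

/-- The index of `L` in `L ⊔ H` when `H` normalises `L`. -/
theorem relIndex_sup_eq {L H : Subgroup Γ} (h : H ≤ normalizer (L : Set Γ)) :
    L.relIndex (L ⊔ H) = L.relIndex H := by
  have hn : (L.subgroupOf (L ⊔ H)).Normal :=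
    (Subgroup.normal_subgroupOf_iff_le_normalizer le_sup_left).mpr (sup_le le_normalizer h)
  rw [← relIndex_subgroupOf (le_sup_right : H ≤ L ⊔ H),
    ← relIndex_subgroupOf (le_refl (L ⊔ H))]
  conv_lhs => rw [subgroupOf_sup le_sup_left le_sup_right]
  exact relIndex_sup_left _ _

/-- A subgroup between `⁅K, K⁆` and `K` is normalised by `K`. -/
theorem le_normalizer_of_commutator_le {K M : Subgroup Γ} (hD : ⁅K, K⁆ ≤ M) (hM : M ≤ K) :
    K ≤ normalizer (M : Set Γ) := by
  rw [le_normalizer_iff]
  intro k hk x hx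
  have h := mul_mem (hD (commutator_mem_commutator hk (hM hx))) hx
  simpa [commutatorElement_def, mul_assoc] using h

/-- Abelian quotient generated by the images of a family of subgroups. -/
theorem relIndex_le_prod [Finite Γ] {ι : Type*} (H : ι → Subgroup Γ) {K M : Subgroup Γ}
    (hD : ⁅K, K⁆ ≤ M) (hM : M ≤ K) (hH : ∀ i, H i ≤ K) (s : Finset ι) :
    M.relIndex (M ⊔ ⨆ i ∈ s, H i) ≤ ∏ i ∈ s, M.relIndex (H i) := by
  classical
  induction s using Finset.induction_on with
  | empty => simp
  | insert a s ha ih =>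
    have hsK : M ⊔ (⨆ i ∈ s, H i) ≤ K := sup_le hM (iSup₂_le fun i _ => hH i)
    have heq : (M ⊔ ⨆ i ∈ insert a s, H i) = (M ⊔ ⨆ i ∈ s, H i) ⊔ H a := by
      rw [Finset.iSup_insert, sup_assoc, sup_comm (H a)]
    rw [heq, Finset.prod_insert ha, ← relIndex_mul_relIndex M (M ⊔ ⨆ i ∈ s, H i) _ le_sup_left
      le_sup_left, mul_comm]
    refine Nat.mul_le_mul ?_ ih
    rw [relIndex_sup_eq ((hH a).trans (le_normalizer_of_commutator_le (hD.trans le_sup_left) hsK))]
    exact relIndex_le_of_le_left le_sup_left index_ne_zero_of_finite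

variable {q : ℕ} [hq : Fact q.Prime]

/-- For a solvable `A`-invariant `q'`-group `K` and a subgroup `Z` normalised by `K`, the index of
`Z ⊓ K` in `K` is at most the product of the corresponding indices for fixed points of
hyperplanes. -/
theorem relIndex_le_hyperplane [Finite Γ] {A : Subgroup Γ} (hA : Cfsg.IsElementaryAbelian q A)
    (hA2 : q ^ 2 ≤ Nat.card A)
    [Fintype {D : Subgroup Γ // D ≤ A ∧ D.relIndex A = q}]
    (Z : Subgroup Γ) : ∀ K : Subgroup Γ, Group.IsSolvable K → ¬ q ∣ Nat.card K →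
      A ≤ normalizer (K : Set Γ) → K ≤ normalizer (Z : Set Γ) →
      Z.relIndex K ≤ ∏ D : {D : Subgroup Γ // D ≤ A ∧ D.relIndex A = q},
        Z.relIndex (K ⊓ centralizer ((D : Subgroup Γ) : Set Γ)) := by
  intro K
  induction hn : Nat.card K using Nat.strong_induction_on generalizing K with
  | _ n ih =>
    intro hs hK hAK hKZ
    subst hn
    rcases eq_or_ne K ⊥ with rfl | hne
    · simp [relIndex_bot_right]
    have hlt : ⁅K, K⁆ < K := Coprime.commutator_lt_of_isSolvable hs hne
    have hcard : Nat.card ↥⁅K, K⁆ < Nat.card K := by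
      by_contra hge
      exact hlt.ne (eq_of_le_of_card_ge hlt.le (not_lt.mp hge))
    have hAD : A ≤ normalizer ((⁅K, K⁆ : Subgroup Γ) : Set Γ) := fun a ha => by
      rw [← Coprime.conj_smul_eq_self_iff, Coprime.conj_smul_commutator,
        Coprime.conj_smul_eq_self_iff.mpr (hAK ha)]
    have hrec := ih _ hcard ⁅K, K⁆ rfl (Coprime.isSolvable_of_le hlt.le hs)
      (fun h => hK (h.trans (card_dvd_of_le hlt.le))) hAD (hlt.le.trans hKZ)
    set M := (Z ⊓ K) ⊔ ⁅K, K⁆ with hMdef
    have hMK : M ≤ K := sup_le inf_le_right hlt.le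
    have hstep : M.relIndex K ≤ ∏ D : {D : Subgroup Γ // D ≤ A ∧ D.relIndex A = q},
        M.relIndex (K ⊓ centralizer ((D : Subgroup Γ) : Set Γ)) := by
      have h := relIndex_le_prod (fun D : {D : Subgroup Γ // D ≤ A ∧ D.relIndex A = q} =>
        K ⊓ centralizer ((D : Subgroup Γ) : Set Γ)) (K := K) (M := M) le_sup_right hMK
        (fun _ => inf_le_left) Finset.univ
      have hgen : (M ⊔ ⨆ D ∈ (Finset.univ : Finset {D : Subgroup Γ // D ≤ A ∧ D.relIndex A = q}),
          K ⊓ centralizer ((D : Subgroup Γ) : Set Γ)) = K := by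
        refine le_antisymm (sup_le hMK (iSup₂_le fun _ _ => inf_le_left)) (le_sup_of_le_right ?_)
        conv_lhs => rw [Hyperplane.eq_iSup_hyperplane hA hA2 hK hAK]
        exact iSup_le fun D => le_iSup₂_of_le D (Finset.mem_univ _) le_rfl
      rwa [hgen] at h
    have hlow : (Z ⊓ K).relIndex M = Z.relIndex ⁅K, K⁆ := by
      rw [hMdef, relIndex_sup_eq (hlt.le.trans ((le_inf hKZ le_normalizer).trans
        inf_normalizer_le_normalizer_inf))]
      rw [← inf_relIndex_right (Z ⊓ K), inf_assoc, inf_eq_right.mpr hlt.le, inf_relIndex_right]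
    rw [← inf_relIndex_right Z K, ← relIndex_mul_relIndex (Z ⊓ K) M K le_sup_left hMK, hlow]
    refine (Nat.mul_le_mul hrec hstep).trans ?_
    rw [← Finset.prod_mul_distrib]
    refine Finset.prod_le_prod' fun D _ => ?_
    set H := K ⊓ centralizer ((D : Subgroup Γ) : Set Γ) with hH
    have h1 : Z.relIndex (⁅K, K⁆ ⊓ centralizer ((D : Subgroup Γ) : Set Γ)) ≤
        Z.relIndex (M ⊓ H) :=
      relIndex_le_of_le_right
        (le_inf (inf_le_left.trans le_sup_right) (inf_le_inf_right _ hlt.le)) index_ne_zero_of_finite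
    refine (Nat.mul_le_mul_right _ h1).trans (le_of_eq ?_)
    rw [relIndex_inf_mul_relIndex, ← inf_relIndex_right (Z ⊓ M) H, inf_assoc,
      ← inf_relIndex_right Z H]
    congr 1
    refine le_antisymm (inf_le_inf_left _ inf_le_right) (le_inf inf_le_left (le_inf ?_ inf_le_right))
    exact le_sup_of_le_left (inf_le_inf_left Z inf_le_left)

end Cfsg.Agent.Components.DerivedBound
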