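import Cfsg.Agent.Lib.Components.DerivedBound.Index

/-!
A bound for the derived subgroup of a group acted on coprimely by an elementary abelian group of
order `q ^ 3`, in terms of the derived subgroups of the fixed points of its nontrivial elements.
-/

set_option autoImplicit false
set_option linter.all false

namespace Cfsg.Agent.Components.DerivedBound

open Subgroup
open scoped commutatorElement Pointwise

variable {Γ : Type*} [Group Γ]

/-- Schur's theorem with an explicit bound. -/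
theorem card_commutator_le {G : Type*} [Group G] [Finite G] {N : ℕ}
    (h : (center G).index ≤ N) : Nat.card (_root_.commutator G) ≤ N ^ (N * (N * N) + 1) := by
  have hset : Nat.card (commutatorSet G) ≤ (center G).index * (center G).index := by
    rw [index_eq_card, ← Nat.card_prod]
    refine Nat.card_le_card_of_surjective
      (fun p : (G ⧸ center G) × (G ⧸ center G) =>
        (⟨⁅p.1.out, p.2.out⁆, p.1.out, p.2.out, rfl⟩ : commutatorSet G)) ?_
    rintro ⟨g, x, y, rfl⟩
    refine ⟨((x : G ⧸ center G), (y : G ⧸ center G)), Subtype.ext ?_⟩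
    obtain ⟨⟨z, hz⟩, hzx⟩ := QuotientGroup.mk_out_eq_mul (center G) x
    obtain ⟨⟨w, hw⟩, hwy⟩ := QuotientGroup.mk_out_eq_mul (center G) y
    simp only
    rw [hzx, hwy]
    have hz' : ∀ a, a * z = z * a := fun a => Subgroup.mem_center_iff.mp hz a
    have hw' : ∀ a, a * w = w * a := fun a => Subgroup.mem_center_iff.mp hw a
    simp only [commutatorElement_def, mul_inv_rev]
    calc x * z * (y * w) * (z⁻¹ * x⁻¹) * (w⁻¹ * y⁻¹)
        = x * (z * (y * w) * z⁻¹) * (x⁻¹ * w⁻¹) * y⁻¹ := by group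
      _ = x * (y * w) * (x⁻¹ * w⁻¹) * y⁻¹ := by
        rw [← hz' (y * w), mul_inv_cancel_right]
      _ = x * y * (w * x⁻¹ * w⁻¹) * y⁻¹ := by group
      _ = x * y * x⁻¹ * y⁻¹ := by
        rw [← hw' x⁻¹, mul_inv_cancel_right]
  have hpos : 0 < (center G).index := Nat.pos_of_ne_zero index_ne_zero_of_finite
  refine (Nat.le_of_dvd (pow_pos hpos _) (card_commutator_dvd_index_center_pow G)).trans ?_
  refine (Nat.pow_le_pow_left h _).trans (Nat.pow_le_pow_right (hpos.trans_le h) ?_)
  exact add_le_add_left (Nat.mul_le_mul h (hset.trans (Nat.mul_le_mul h h))) 1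

/-- The bound. -/
theorem card_commutator_le_of_fixed [Finite Γ] {q m : ℕ} [hq : Fact q.Prime] {A G : Subgroup Γ}
    (hA : Cfsg.IsElementaryAbelian q A) (hcard : Nat.card A = q ^ 3)
    (hG : ¬ q ∣ Nat.card G) (hAG : A ≤ normalizer (G : Set Γ))
    (hm : ∀ a ∈ A, a ≠ 1 →
      Nat.card ↥⁅G ⊓ centralizer ({a} : Set Γ), G ⊓ centralizer ({a} : Set Γ)⁆ ≤ m) :
    Nat.card ↥⁅G, G⁆ ≤
      ((((m + 1) ^ (q ^ 3 * (m + 1))) ^ 2 ^ q ^ 3) ^ (((m + 1) ^ (q ^ 3 * (m + 1))) ^ 2 ^ q ^ 3 + 1)) ^
        ((((m + 1) ^ (q ^ 3 * (m + 1))) ^ 2 ^ q ^ 3) ^ (((m + 1) ^ (q ^ 3 * (m + 1))) ^ 2 ^ q ^ 3 + 1) *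
          (((((m + 1) ^ (q ^ 3 * (m + 1))) ^ 2 ^ q ^ 3) ^ (((m + 1) ^ (q ^ 3 * (m + 1))) ^ 2 ^ q ^ 3 + 1)) *
           ((((m + 1) ^ (q ^ 3 * (m + 1))) ^ 2 ^ q ^ 3) ^ (((m + 1) ^ (q ^ 3 * (m + 1))) ^ 2 ^ q ^ 3 + 1))) + 1)
        * (m + 1) ^ (q ^ 3 * (m + 1)) := by
  classical
  set n0 := q ^ 3 * (m + 1) with hn0
  set M := (m + 1) ^ n0 with hM
  set L := M ^ 2 ^ q ^ 3 with hL
  set N := L ^ (L + 1) with hN
  have hA2 : q ^ 2 ≤ Nat.card A := hcard ▸ Nat.pow_le_pow_right hq.out.pos (by norm_num)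
  let ι := {D : Subgroup Γ // D ≤ A ∧ D.relIndex A = q}
  have : Fintype ι := Fintype.ofFinite ι
  have hcardD : ∀ D : ι, Nat.card (D : Subgroup Γ) = q ^ 2 := by
    intro D
    have h : Nat.card (D : Subgroup Γ) * (D : Subgroup Γ).relIndex A = Nat.card A := by
      rw [← relIndex_bot_left, ← relIndex_bot_left A]
      exact relIndex_mul_relIndex _ _ _ bot_le D.2.1
    rw [D.2.2, hcard, pow_succ] at h
    exact Nat.eq_of_mul_eq_mul_right hq.out.pos h
  have hι : Fintype.card ι ≤ 2 ^ q ^ 3 := by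
    rw [← hcard, ← Nat.card_eq_fintype_card]
    have : Nat.card (Set ↥A) = 2 ^ Nat.card A := by
      have := Fintype.ofFinite A
      rw [Nat.card_eq_fintype_card, Nat.card_eq_fintype_card, Fintype.card_set]
    rw [← this]
    refine Nat.card_le_card_of_injective (fun D : ι => {x : A | (x : Γ) ∈ (D : Subgroup Γ)}) ?_
    intro D E h
    refine Subtype.ext (Subgroup.ext fun x => ?_)
    by_cases hx : x ∈ A
    · exact Set.ext_iff.mp h ⟨x, hx⟩
    · exact ⟨fun h' => absurd (D.2.1 h') hx, fun h' => absurd (E.2.1 h') hx⟩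
  -- two hyperplanes meet
  have hmeet : ∀ D E : ι, ∃ c : Γ, c ≠ 1 ∧ c ∈ (D : Subgroup Γ) ∧ c ∈ (E : Subgroup Γ) := by
    intro D E
    by_contra hcon
    push Not at hcon
    have hd : Disjoint (D : Subgroup Γ) (E : Subgroup Γ) := by
      rw [disjoint_def]
      intro x hxD hxE
      by_contra hx1
      exact hcon x hx1 hxD hxE
    have h := Nat.card_le_card_of_injective
      (fun p : ↥(D : Subgroup Γ) × ↥(E : Subgroup Γ) =>
        (⟨(p.1 : Γ) * (p.2 : Γ), mul_mem (D.2.1 p.1.2) (E.2.1 p.2.2)⟩ : A))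
      (fun p r h => Subgroup.mul_injective_of_disjoint hd (Subtype.ext_iff.mp h))
    rw [Nat.card_prod, hcardD, hcardD, hcard, ← pow_add] at h
    exact absurd ((Nat.pow_le_pow_iff_right hq.out.one_lt).mp h) (by norm_num)
  -- every element of `A` lies in a hyperplane
  have hin : ∀ a ∈ A, a ≠ 1 → ∃ D : ι, a ∈ (D : Subgroup Γ) := by
    intro a ha ha1
    have hz : Nat.card (zpowers (⟨a, ha⟩ : A)) = q ^ 1 := by
      rw [Nat.card_zpowers, pow_one, Subgroup.orderOf_mk]
      exact Hyperplane.orderOf_eq hA ha ha1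
    obtain ⟨K, hK, haK⟩ := Sylow.exists_subgroup_card_pow_prime_le (G := A) q (n := 1) (m := 2)
      (hcard ▸ pow_dvd_pow q (by norm_num)) _ hz (by norm_num)
    refine ⟨⟨K.map A.subtype, map_subtype_le K, ?_⟩, ⟨⟨a, ha⟩, haK (mem_zpowers _), rfl⟩⟩
    have h : Nat.card (K.map A.subtype) * (K.map A.subtype).relIndex A = Nat.card A := by
      rw [← relIndex_bot_left, ← relIndex_bot_left A]
      exact relIndex_mul_relIndex _ _ _ bot_le (map_subtype_le K)
    rw [card_subtype, hK, hcard, pow_succ q 2] at h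
    exact Nat.eq_of_mul_eq_mul_left (pow_pos hq.out.pos 2) h
  let C : Γ → Subgroup Γ := fun a => G ⊓ centralizer ({a} : Set Γ)
  let K : Γ → Subgroup Γ := fun a => ⁅C a, C a⁆
  let H : ι → Subgroup Γ := fun D => G ⊓ centralizer ((D : Subgroup Γ) : Set Γ)
  have hKG : ∀ a, K a ≤ G := fun a => (commutator_le_self (C a)).trans inf_le_left
  have hHC : ∀ (D : ι) (a : Γ), a ∈ (D : Subgroup Γ) → H D ≤ C a := fun D a ha =>
    inf_le_inf_left _ (centralizer_le (Set.singleton_subset_iff.mpr ha))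
  let S : Set Γ := {s | ∃ (a : Γ) (D : ι), a ∈ (D : Subgroup Γ) ∧ a ≠ 1 ∧ s ∈ K a ∧ s ∈ H D}
  let D0 : Subgroup Γ := closure S
  have hSG : S ⊆ (G : Set Γ) := fun s ⟨a, D, _, _, hs, _⟩ => hKG a hs
  have hD0G : D0 ≤ G := (closure_le G).mpr hSG
  have hgen : ∀ K' : Subgroup Γ, K' ≤ G → A ≤ normalizer (K' : Set Γ) →
      K' = ⨆ D : ι, K' ⊓ centralizer ((D : Subgroup Γ) : Set Γ) := fun K' hK' hAK' =>
    Hyperplane.eq_iSup_hyperplane hA hA2 (fun h => hG (h.trans (card_dvd_of_le hK'))) hAK'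
  -- `K a ≤ D0`
  have hKD0 : ∀ a ∈ A, a ≠ 1 → K a ≤ D0 := by
    intro a ha ha1
    have hAC : A ≤ normalizer (C a : Set Γ) := by
      refine le_trans (le_inf hAG ?_) inf_normalizer_le_normalizer_inf
      intro b hb
      exact le_normalizer (mem_centralizer_singleton_iff.mpr (Hyperplane.mem_comm hA hb ha))
    have hAK' : A ≤ normalizer (K a : Set Γ) := fun b hb => by
      rw [← Coprime.conj_smul_eq_self_iff, Coprime.conj_smul_commutator,
        Coprime.conj_smul_eq_self_iff.mpr (hAC hb)]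
    rw [hgen (K a) (hKG a) hAK']
    refine iSup_le fun D x hx => subset_closure ?_
    obtain ⟨hxK, hxD⟩ := mem_inf.mp hx
    by_cases haD : a ∈ (D : Subgroup Γ)
    · exact ⟨a, D, haD, ha1, hxK, ⟨hKG a hxK, hxD⟩⟩
    · obtain ⟨D', hD'⟩ := hin a ha ha1
      refine ⟨a, D', hD', ha1, hxK, ⟨hKG a hxK, ?_⟩⟩
      -- `x` centralises `D ⊔ ⟨a⟩ = A`
      have hle : (D : Subgroup Γ) ⊔ zpowers a ≤ A := sup_le D.2.1 (zpowers_le.mpr ha)
      have htop : (D : Subgroup Γ) ⊔ zpowers a = A := by
        have h := relIndex_mul_relIndex (D : Subgroup Γ) _ A le_sup_left hle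
        rw [D.2.2] at h
        rcases (Nat.dvd_prime hq.out).mp ⟨_, h.symm⟩ with h1 | h1
        · exact absurd (relIndex_eq_one.mp h1 (mem_sup_right (mem_zpowers a))) haD
        · rw [h1] at h
          exact le_antisymm hle (relIndex_eq_one.mp
            (Nat.eq_of_mul_eq_mul_left hq.out.pos (h.trans (mul_one q).symm)))
      have hxC : ((D : Subgroup Γ) ⊔ zpowers a : Subgroup Γ) ≤ centralizer ({x} : Set Γ) := by
        refine sup_le (fun d hd => mem_centralizer_singleton_iff.mpr
          (mem_centralizer_iff.mp hxD d hd)) (zpowers_le.mpr ?_)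
        have hxa : x ∈ C a := (commutator_le_self (C a)) hxK
        exact mem_centralizer_singleton_iff.mpr (mem_centralizer_singleton_iff.mp hxa.2).symm
      rw [htop] at hxC
      exact mem_centralizer_iff.mpr fun d hd =>
        mem_centralizer_singleton_iff.mp (hxC (D'.2.1 hd))
  -- commutators of the generators
  have hcomm : ∀ (D E : ι), ∀ x ∈ H D, ∀ y ∈ H E, ⁅x, y⁆ ∈ D0 := by
    intro D E x hx y hy
    obtain ⟨c, hc1, hcD, hcE⟩ := hmeet D E
    exact hKD0 c (D.2.1 hcD) hc1
      (commutator_mem_commutator (hHC D c hcD hx) (hHC E c hcE hy))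
  have hGgen : G = ⨆ D : ι, H D := hgen G le_rfl hAG
  have hnorm : G ≤ normalizer (D0 : Set Γ) := by
    rw [hGgen]
    refine iSup_le fun E => le_normalizer_iff.mpr fun h hh k hk => ?_
    suffices hS : ∀ s ∈ S, h * s * h⁻¹ ∈ D0 by
      have hle : D0 ≤ D0.comap (MulAut.conj h).toMonoidHom := (closure_le _).mpr fun s hs => hS s hs
      exact hle hk
    rintro s ⟨a, D, haD, ha1, hsK, hsH⟩
    have h1 := mul_mem (hcomm E D h hh s hsH) (subset_closure ⟨a, D, haD, ha1, hsK, hsH⟩ : s ∈ D0)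
    simpa [commutatorElement_def, mul_assoc] using h1
  have hnorm' : ∀ g ∈ G, ∀ k ∈ D0, g * k * g⁻¹ ∈ D0 := le_normalizer_iff.mp hnorm
  have hGG : ⁅G, G⁆ ≤ D0 := by
    have step : ∀ g ∈ G, ∀ E : ι, ∀ y ∈ H E, ⁅g, y⁆ ∈ D0 := by
      intro g hg
      rw [hGgen] at hg
      refine (Subgroup.iSup_induction H (C := fun g => g ∈ G ∧ ∀ E : ι, ∀ y ∈ H E, ⁅g, y⁆ ∈ D0) hg
        (fun D x hx => ⟨inf_le_left (a := G) hx, fun E y hy => hcomm D E x hx y hy⟩)
        ⟨one_mem _, fun E y _ => by simp⟩ ?_).2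
      rintro x y ⟨hx, hx'⟩ ⟨hy, hy'⟩
      refine ⟨mul_mem hx hy, fun E z hz => ?_⟩
      have h := mul_mem (hnorm' x hx _ (hy' E z hz)) (hx' E z hz)
      simpa [commutatorElement_def, mul_assoc] using h
    rw [commutator_le]
    intro g hg y hy
    rw [hGgen] at hy
    refine (Subgroup.iSup_induction H (C := fun y => y ∈ G ∧ ⁅g, y⁆ ∈ D0) hy
      (fun E y hy => ⟨inf_le_left (a := G) hy, step g hg E y hy⟩) ⟨one_mem _, by simp⟩ ?_).2
    rintro x z ⟨hx, hx'⟩ ⟨hz, hz'⟩
    refine ⟨mul_mem hx hz, ?_⟩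
    have h := mul_mem hx' (hnorm' x hx _ hz')
    simpa [commutatorElement_def, mul_assoc] using h
  -- the generating set is small
  have hSfin : S.Finite := Set.toFinite S
  have hScard : Nat.card S ≤ n0 := by
    have hsub : S ⊆ ⋃ a : {a : A // (a : Γ) ≠ 1}, (K ((a : A) : Γ) : Set Γ) := by
      rintro s ⟨a, D, haD, ha1, hsK, -⟩
      exact Set.mem_iUnion.mpr ⟨⟨⟨a, D.2.1 haD⟩, ha1⟩, hsK⟩
    have h1 : Nat.card S ≤ Nat.card (Σ a : {a : A // (a : Γ) ≠ 1}, K ((a : A) : Γ)) :=
      (Nat.card_mono (Set.toFinite _) hsub).trans (Nat.card_le_card_of_surjective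
        (fun p : Σ a : {a : A // (a : Γ) ≠ 1}, K ((a : A) : Γ) =>
          (⟨p.2, Set.mem_iUnion.mpr ⟨p.1, p.2.2⟩⟩ :
            ↥(⋃ a : {a : A // (a : Γ) ≠ 1}, (K ((a : A) : Γ) : Set Γ))))
        (fun x => by
          obtain ⟨a, ha⟩ := Set.mem_iUnion.mp x.2
          exact ⟨⟨a, ⟨x.1, ha⟩⟩, rfl⟩))
    have : Fintype {a : A // (a : Γ) ≠ 1} := Fintype.ofFinite _
    rw [Nat.card_sigma] at h1
    refine h1.trans ((Finset.sum_le_card_nsmul _ _ m fun a _ => hm _ a.1.2 a.2).trans ?_)
    rw [smul_eq_mul, hn0, Finset.card_univ, ← Nat.card_eq_fintype_card]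
    exact Nat.mul_le_mul (le_of_le_of_eq (Finite.card_subtype_le _) hcard) (Nat.le_succ m)
  have hSorder : ∀ s ∈ S, Nat.card (zpowers s) ≤ m + 1 := by
    rintro s ⟨a, D, haD, ha1, hsK, -⟩
    exact ((card_le_of_le (zpowers_le.mpr hsK)).trans (hm a (D.2.1 haD) ha1)).trans (Nat.le_succ m)
  -- centralisers of `S` have bounded index in each `H E`
  have hcent : ∀ E : ι, (centralizer S).relIndex (H E) ≤ M := by
    intro E
    have hc : ∀ s : S, ∃ c : Γ, c ∈ A ∧ c ≠ 1 ∧ H E ≤ C c ∧ (s : Γ) ∈ C c := by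
      rintro ⟨s, a, D, haD, ha1, hsK, hsH⟩
      obtain ⟨c, hc1, hcD, hcE⟩ := hmeet D E
      exact ⟨c, D.2.1 hcD, hc1, hHC E c hcE, hHC D c hcD hsH⟩
    choose c hcA hc1 hcH hcs using hc
    have hmem : ∀ (s : S) (h : H E), ⁅(h : Γ), (s : Γ)⁆ ∈ K (c s) := fun s h =>
      commutator_mem_commutator (hcH s h.2) (hcs s)
    have : Fintype S := Fintype.ofFinite _
    have hinj : (centralizer S).relIndex (H E) ≤ Nat.card (∀ s : S, K (c s)) := by
      rw [relIndex, index_eq_card]
      refine Nat.card_le_card_of_injective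
        (fun x : ↥(H E) ⧸ (centralizer S).subgroupOf (H E) =>
          fun s : S => (⟨⁅((x.out : H E) : Γ), (s : Γ)⁆, hmem s x.out⟩ : K (c s))) ?_
      intro x y hxy
      rw [← QuotientGroup.out_eq' x, ← QuotientGroup.out_eq' y, QuotientGroup.eq, mem_subgroupOf,
        mem_centralizer_iff]
      intro s hs
      have h := congrArg Subtype.val (congrFun hxy ⟨s, hs⟩)
      simp only [commutatorElement_def, mul_left_inj] at h
      simp only [coe_mul, InvMemClass.coe_inv]
      calc s * ((x.out : Γ)⁻¹ * (y.out : Γ))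
          = (x.out : Γ)⁻¹ * ((x.out : Γ) * s * (x.out : Γ)⁻¹) * (y.out : Γ) := by group
        _ = (x.out : Γ)⁻¹ * ((y.out : Γ) * s * (y.out : Γ)⁻¹) * (y.out : Γ) := by rw [h]
        _ = (x.out : Γ)⁻¹ * (y.out : Γ) * s := by group
    refine hinj.trans ?_
    rw [Nat.card_pi]
    refine (Finset.prod_le_pow_card _ _ (m + 1) fun s _ =>
      (hm _ (hcA s) (hc1 s)).trans (Nat.le_succ m)).trans ?_
    rw [Finset.card_univ, ← Nat.card_eq_fintype_card]
    exact Nat.pow_le_pow_right (Nat.succ_pos m) hScard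
  -- the centre of `D0` has bounded index
  let Z : Subgroup Γ := D0 ⊓ centralizer S
  have hMpos : 1 ≤ M := Nat.one_le_pow _ _ (Nat.succ_pos m)
  have hLpos : 1 ≤ L := Nat.one_le_pow _ _ hMpos
  have hAD0 : A ≤ normalizer (D0 : Set Γ) := by
    refine le_normalizer_iff.mpr fun b hb k hk => ?_
    suffices hS : ∀ s ∈ S, b * s * b⁻¹ ∈ D0 by
      have hle : D0 ≤ D0.comap (MulAut.conj b).toMonoidHom := (closure_le _).mpr fun s hs => hS s hs
      exact hle hk
    rintro s ⟨a, D, haD, ha1, hsK, hsH⟩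
    have hbs : b * s * b⁻¹ ∈ K a := by
      have hb' : MulAut.conj b • C a = C a := by
        rw [Coprime.conj_smul_eq_self_iff]
        exact le_trans (le_inf hAG (fun x hx => le_normalizer (mem_centralizer_singleton_iff.mpr
          (Hyperplane.mem_comm hA hx (D.2.1 haD))))) inf_normalizer_le_normalizer_inf hb
      have := Coprime.conj_mem_conj_smul (g := b) hsK
      rwa [Coprime.conj_smul_commutator, hb'] at this
    exact hKD0 a (D.2.1 haD) ha1 hbs
  have hcop : (Nat.card A).Coprime (Nat.card D0) := by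
    rw [hcard]
    exact (hq.out.coprime_iff_not_dvd.mpr fun h => hG (h.trans (card_dvd_of_le hD0G))).pow_left 3
  have hD0Z : D0 ≤ normalizer (Z : Set Γ) := by
    refine le_normalizer_iff.mpr fun g hg k hk => ?_
    obtain ⟨hk1, hk2⟩ := mem_inf.mp hk
    have hk3 : k ∈ centralizer (D0 : Set Γ) := by
      show k ∈ centralizer (closure S : Set Γ)
      rwa [centralizer_closure]
    have h : g * k * g⁻¹ = k := by
      rw [mem_centralizer_iff.mp hk3 g hg, mul_inv_cancel_right]
    rw [h]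
    exact hk
  have hindex : Z.relIndex D0 ≤ N := by
    have hpp : ∀ p, p.Prime → p ^ (Z.relIndex D0).factorization p ≤ L := by
      intro p hp
      have := Fact.mk hp
      obtain ⟨P, hP⟩ := Coprime.exists_invariant_sylow p hAD0 hcop
        (Or.inl (Coprime.isSolvable_of_le le_rfl (by
          have := hA.1
          exact Coprime.isSolvable_of_isMulCommutative A)))
      set P' := (P : Subgroup D0).map D0.subtype with hP'
      have hP'le : P' ≤ D0 := map_subtype_le _
      have hsol : Group.IsSolvable P' := by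
        have : Group.IsNilpotent P' := (P.2.map _).isNilpotent
        infer_instance
      have hle := relIndex_le_hyperplane hA hA2 Z P' hsol
        (fun h => hG (h.trans (card_dvd_of_le (hP'le.trans hD0G)))) hP (hP'le.trans hD0Z)
      refine le_trans ?_ (hle.trans ((Finset.prod_le_pow_card _ _ M fun E _ => ?_).trans ?_))
      · -- Sylow arithmetic
        have h0 : Z.relIndex D0 ≠ 0 := index_ne_zero_of_finite
        have hcP : Nat.card P' = p ^ (Nat.card D0).factorization p := by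
          rw [hP', card_subtype, P.card_eq_multiplicity]
        have hmulP : Nat.card ↥(Z ⊓ P') * Z.relIndex P' = Nat.card P' := by
          rw [← inf_relIndex_right Z P', ← relIndex_bot_left, ← relIndex_bot_left P']
          exact relIndex_mul_relIndex _ _ _ bot_le inf_le_right
        have hmulD : Nat.card Z * Z.relIndex D0 = Nat.card D0 := by
          rw [← relIndex_bot_left, ← relIndex_bot_left D0]
          exact relIndex_mul_relIndex _ _ _ bot_le inf_le_left
        have hdvd : Nat.card ↥(Z ⊓ P') ∣ p ^ (Nat.card Z).factorization p := by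
          obtain ⟨j, hj⟩ := IsPGroup.iff_card.mp ((P.2.map D0.subtype).to_le
            (inf_le_right : Z ⊓ P' ≤ P'))
          rw [hj]
          refine pow_dvd_pow p ((hp.pow_dvd_iff_le_factorization Nat.card_pos.ne').mp ?_)
          rw [← hj]
          exact card_dvd_of_le inf_le_left
        have hfac : (Nat.card D0).factorization p =
            (Nat.card Z).factorization p + (Z.relIndex D0).factorization p := by
          rw [← hmulD, Nat.factorization_mul Nat.card_pos.ne' h0]
          rfl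
        refine Nat.le_of_mul_le_mul_left ?_ (pow_pos hp.pos ((Nat.card Z).factorization p))
        rw [← pow_add, ← hfac, ← hcP, ← hmulP]
        exact Nat.mul_le_mul_right _ (Nat.le_of_dvd (pow_pos hp.pos _) hdvd)
      · -- each factor
        refine le_trans (le_of_eq ?_) ((relIndex_le_of_le_right
          (inf_le_inf_right _ (hP'le.trans hD0G)) index_ne_zero_of_finite).trans (hcent E))
        rw [← inf_relIndex_right Z, ← inf_relIndex_right (centralizer S)]
        congr 1
        refine le_antisymm (inf_le_inf_right _ inf_le_right) (le_inf (le_inf ?_ inf_le_left) inf_le_right)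
        exact inf_le_right.trans (inf_le_left.trans hP'le)
      · rw [Finset.card_univ]
        exact Nat.pow_le_pow_right hMpos hι
    have hne : Z.relIndex D0 ≠ 0 := index_ne_zero_of_finite
    conv_lhs => rw [← Nat.factorization_prod_pow_eq_self hne]
    rw [Finsupp.prod, Nat.support_factorization]
    refine (Finset.prod_le_pow_card _ _ L fun p hp => hpp p (Nat.prime_of_mem_primeFactors hp)).trans ?_
    refine Nat.pow_le_pow_right hLpos ((Finset.card_le_card (t := Finset.range (L + 1)) ?_).trans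
      (Finset.card_range _).le)
    intro p hp
    have hpr := Nat.prime_of_mem_primeFactors hp
    refine Finset.mem_range.mpr (Nat.lt_succ_of_le (le_trans ?_ (hpp p hpr)))
    exact Nat.le_self_pow
      ((hpr.factorization_pos_of_dvd hne (Nat.dvd_of_mem_primeFactors hp)).ne') p
  -- Schur
  have hcenter : (center ↥D0).index ≤ N := by
    refine le_trans (Nat.le_of_dvd (Nat.pos_of_ne_zero index_ne_zero_of_finite) (index_dvd_of_le ?_)) hindex
    intro z hz
    have hz' : (z : Γ) ∈ centralizer (closure S : Set Γ) := by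
      rw [centralizer_closure]
      exact (mem_inf.mp hz).2
    exact mem_center_iff.mpr fun g => Subtype.ext (mem_centralizer_iff.mp hz' g g.2)
  have hder : Nat.card ↥⁅D0, D0⁆ ≤ N ^ (N * (N * N) + 1) := by
    rw [← map_subtype_commutator, card_subtype]
    exact card_commutator_le hcenter
  -- the abelianisation
  have hab : (⁅D0, D0⁆).relIndex D0 ≤ M := by
    have : Fintype S := Fintype.ofFinite _
    have h := relIndex_le_prod (fun s : S => zpowers (s : Γ)) (K := D0) (M := ⁅D0, D0⁆) le_rfl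
      (commutator_le_self D0) (fun s => zpowers_le.mpr (subset_closure s.2)) Finset.univ
    have htop : (⁅D0, D0⁆ ⊔ ⨆ s ∈ (Finset.univ : Finset S), zpowers (s : Γ)) = D0 := by
      refine le_antisymm (sup_le (commutator_le_self D0)
        (iSup₂_le fun s _ => zpowers_le.mpr (subset_closure s.2))) ((closure_le _).mpr fun s hs => ?_)
      exact mem_sup_right ((le_iSup₂ (f := fun (s : S) (_ : s ∈ Finset.univ) => zpowers (s : Γ)) ⟨s, hs⟩ (Finset.mem_univ _)) (mem_zpowers s))
    rw [htop] at h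
    refine h.trans ((Finset.prod_le_pow_card _ _ (m + 1) fun s _ => ?_).trans ?_)
    · refine le_trans (Nat.le_of_dvd Nat.card_pos ?_) (hSorder s s.2)
      exact Subgroup.index_dvd_card _
    · rw [Finset.card_univ, ← Nat.card_eq_fintype_card]
      exact Nat.pow_le_pow_right (Nat.succ_pos m) hScard
  refine (card_le_of_le hGG).trans ?_
  have hmul : Nat.card ↥⁅D0, D0⁆ * (⁅D0, D0⁆).relIndex D0 = Nat.card D0 := by
    rw [← relIndex_bot_left, ← relIndex_bot_left D0]
    exact relIndex_mul_relIndex _ _ _ bot_le (commutator_le_self D0)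
  exact hmul ▸ Nat.mul_le_mul hder hab

end Cfsg.Agent.Components.DerivedBound
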